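import Mathlib

/-! Power series `u` with `u ^ n * (1 + X ^ n) = 1`. -/

set_option autoImplicit false

universe u

open PowerSeries

namespace Groth.Agent.H83.ASC

variable {k : Type u} [Field k] {n : ℕ}

theorem geom_isUnit (hn0 : (n : k) ≠ 0) {v : PowerSeries k} (hv1 : constantCoeff v = 1) :
    IsUnit (∑ i ∈ Finset.range n, v ^ i) := by
  rw [isUnit_iff_constantCoeff]
  simp [hv1, hn0]

theorem dvd_sub_one (hn0 : (n : k) ≠ 0) {v b : PowerSeries k} (hv1 : constantCoeff v = 1)
    (hv : v ^ n * (1 + X ^ n * b) = 1) : X ^ n ∣ v - 1 := by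
  rw [← (geom_isUnit hn0 hv1).dvd_mul_right, mul_geom_sum]
  exact ⟨-(v ^ n * b), by linear_combination hv⟩

theorem eq_one_of_pow_eq_one (hn0 : (n : k) ≠ 0) {v : PowerSeries k} (hv1 : constantCoeff v = 1)
    (hv : v ^ n = 1) : v = 1 := by
  rw [← sub_eq_zero, ← (geom_isUnit hn0 hv1).mul_left_eq_zero, mul_geom_sum, hv, sub_self]

theorem natCast_mul_sub_one (hn0 : (n : k) ≠ 0) {v : PowerSeries k} (hv1 : constantCoeff v = 1)
    (hv : v ^ n * (1 + X ^ n) = 1) :
    X ^ (2 * n) ∣ (n : PowerSeries k) * (v - 1) + X ^ n := by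
  have hd : X ^ n ∣ v - 1 := dvd_sub_one hn0 hv1 (b := 1) (by rw [mul_one]; exact hv)
  have hp : ∀ i : ℕ, X ^ n ∣ v ^ i - 1 := fun i => hd.trans (sub_one_dvd_pow_sub_one v i)
  have hs : X ^ n ∣ (∑ i ∈ Finset.range n, v ^ i) - (n : PowerSeries k) := by
    have he : (∑ i ∈ Finset.range n, v ^ i) - (n : PowerSeries k) = ∑ i ∈ Finset.range n, (v ^ i - 1) := by
      rw [Finset.sum_sub_distrib]; simp
    rw [he]; exact Finset.dvd_sum fun i _ => hp i
  have h1 := mul_geom_sum v n
  rw [show (n : PowerSeries k) * (v - 1) + X ^ n =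
      ((n : PowerSeries k) - ∑ i ∈ Finset.range n, v ^ i) * (v - 1) - X ^ n * (v ^ n - 1) by
    linear_combination h1 + hv, two_mul, pow_add]
  refine dvd_sub (mul_dvd_mul ?_ hd) (mul_dvd_mul_left _ (hp n))
  simpa using dvd_neg.mpr hs

theorem zpow_sub_one (U : (PowerSeries k)ˣ) (hU : X ^ n ∣ (U : PowerSeries k) - 1) (z : ℤ) :
    X ^ (2 * n) ∣ ((U ^ z : (PowerSeries k)ˣ) : PowerSeries k) - 1 - (z : PowerSeries k) * ((U : PowerSeries k) - 1) := by
  have h2 : X ^ (2 * n) ∣ ((U : PowerSeries k) - 1) * ((U : PowerSeries k) - 1) := by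
    rw [two_mul, pow_add]; exact mul_dvd_mul hU hU
  induction z using Int.induction_on with
  | zero => simp
  | succ i ih =>
    have he : ((U ^ ((i : ℤ) + 1) : (PowerSeries k)ˣ) : PowerSeries k) = ((U ^ (i : ℤ) : (PowerSeries k)ˣ) : PowerSeries k) * U := by
      rw [zpow_add_one, Units.val_mul]
    rw [he]
    convert dvd_add (ih.mul_right (U : PowerSeries k)) (h2.mul_left ((i : ℤ) : PowerSeries k)) using 1
    push_cast; ring
  | pred i ih =>
    have he : ((U ^ (-(i : ℤ) - 1) : (PowerSeries k)ˣ) : PowerSeries k) * U =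
        ((U ^ (-(i : ℤ)) : (PowerSeries k)ˣ) : PowerSeries k) := by
      rw [← Units.val_mul, ← zpow_add_one, sub_add_cancel]
    rw [← U.isUnit.dvd_mul_right]
    convert dvd_sub ih (h2.mul_left ((-(i : ℤ) - 1 : ℤ) : PowerSeries k)) using 1
    push_cast
    linear_combination he

theorem hasSubst_X_mul (v : PowerSeries k) : HasSubst (X * v) :=
  HasSubst.of_constantCoeff_zero' (by simp)

theorem dvd_subst_sub {v : PowerSeries k} (hv : X ^ n ∣ v - 1) (h : PowerSeries k) :
    X ^ n ∣ subst (X * v) h - h := by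
  have hs := hasSubst_X_mul v
  rw [← coe_substAlgHom hs]
  set σ := substAlgHom (R := k) hs
  have hσX : σ X = X * v := substAlgHom_X hs
  have hpoly : ∀ q : Polynomial k, X ^ n ∣ σ (q : PowerSeries k) - (q : PowerSeries k) := by
    intro q
    induction q using Polynomial.induction_on' with
    | add a b ha hb =>
      rw [Polynomial.coe_add, map_add]
      convert dvd_add ha hb using 1; ring
    | monomial j c =>
      rw [← Polynomial.C_mul_X_pow_eq_monomial, Polynomial.coe_mul, Polynomial.coe_pow, Polynomial.coe_X,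
        Polynomial.coe_C, map_mul, map_pow, hσX, show σ (C c) = C c by exact σ.commutes c]
      rw [mul_pow]
      convert ((hv.trans (sub_one_dvd_pow_sub_one v j)).mul_left (C c * X ^ j)) using 1; ring
  obtain ⟨r, hr⟩ : X ^ n ∣ h - (trunc n h : PowerSeries k) := by
    rw [X_pow_dvd_iff]
    intro m hm
    simp [coeff_trunc, hm]
  have he : h = (trunc n h : PowerSeries k) + X ^ n * r := by linear_combination hr
  rw [he, map_add, map_mul, map_pow, hσX, mul_pow]
  convert dvd_add (hpoly (trunc n h)) (dvd_mul_right (X ^ n) (v ^ n * σ r - r)) using 1; ring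

end Groth.Agent.H83.ASC
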